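import Mathlib
import Cfsg.Prelude.Def_Blocks
import Cfsg.Prelude.Def_Classical
import Cfsg.Agent.Lib.Helper79.ModP.Defs
import Cfsg.Agent.S0799
import Cfsg.Agent.S0253
import Cfsg.Agent.Lib.Helper57.PSLMap
import Cfsg.Agent.Lib.Helper76.BrauerEndPSLa
import Cfsg.Agent.Lib.Helper14.PSL2Arith

/-!
# S4504 module [B-DICKSON] (helper45, for helper79)

A subgroup `H` of `PSL₂(K)` (char `p ≥ 5`) generated by its elements of order `p`, with `p ∥ |H|` and
without normal subgroups of index `p`, is isomorphic to `PSL₂(p)`: run through Dickson's list (S0799).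
Statement verbatim from `Cfsg/Agent/Lib/Helper79/S4504/SPINE4504.md`.
-/

set_option autoImplicit false

open Cfsg Cfsg.Agent.Lib.Helper79.ModP

universe u

local notation "PSL2p" p => Matrix.ProjectiveSpecialLinearGroup (Fin 2) (ZMod p)

namespace Cfsg.Agent.Lib.Helper45.S4504

/-- a prime `p ≥ 5` dividing `n ≤ 60` with `n ∈ {12, 24, 60}` is `5` and `n = 60` -/
theorem prime_dvd_small {p n : ℕ} (hp : p.Prime) (hp5 : 5 ≤ p) (hn : n = 12 ∨ n = 24 ∨ n = 60)
    (h : p ∣ n) : p = 5 ∧ n = 60 := by
  rcases hn with rfl | rfl | rfl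
  · exfalso
    have h1 : p ∣ 4 * 3 := by norm_num; exact h
    rcases (Nat.Prime.dvd_mul hp).mp h1 with h2 | h2
    · have := Nat.le_of_dvd (by norm_num) h2; omega
    · have := Nat.le_of_dvd (by norm_num) h2; omega
  · exfalso
    have h1 : p ∣ 8 * 3 := by norm_num; exact h
    rcases (Nat.Prime.dvd_mul hp).mp h1 with h2 | h2
    · have h3 : p ∣ 2 ^ 3 := by norm_num; exact h2
      have := Nat.le_of_dvd (by norm_num) (hp.dvd_of_dvd_pow h3); omega
    · have := Nat.le_of_dvd (by norm_num) h2; omega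
  · refine ⟨?_, rfl⟩
    have h1 : p ∣ 12 * 5 := by norm_num; exact h
    rcases (Nat.Prime.dvd_mul hp).mp h1 with h2 | h2
    · exfalso
      have h1 : p ∣ 4 * 3 := by norm_num; exact h2
      rcases (Nat.Prime.dvd_mul hp).mp h1 with h2 | h2
      · have := Nat.le_of_dvd (by norm_num) h2; omega
      · have := Nat.le_of_dvd (by norm_num) h2; omega
    · have := Nat.le_of_dvd (by norm_num) h2; omega

/-- MODULE S4504-[B-DICKSON] -/
theorem dickson_p {K : Type*} [Field K] [Fintype K] {p : ℕ} [Fact p.Prime] [CharP K p]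
    (hp5 : 5 ≤ p) (H : Subgroup (Matrix.ProjectiveSpecialLinearGroup (Fin 2) K))
    (hgen : Subgroup.closure {y : Matrix.ProjectiveSpecialLinearGroup (Fin 2) K |
      y ∈ H ∧ orderOf y = p} = H)
    (hdiv : p ∣ Nat.card H) (hsq : ¬ p ^ 2 ∣ Nat.card H)
    (hidx : ∀ N : Subgroup H, N.Normal → N.index ≠ p) :
    Nonempty (H ≃* PSL2p p) := by
  classical
  have hp : p.Prime := Fact.out
  have hp2 : ¬ p ∣ 2 := fun h => by have := Nat.le_of_dvd (by norm_num) h; omega
  -- induction principle: a subgroup of `H` containing all elements of order `p` is everything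
  have key : ∀ P : Subgroup ↥H, (∀ h : ↥H, orderOf h = p → h ∈ P) → ∀ h : ↥H, h ∈ P := by
    intro P hP h
    have hle : Subgroup.closure {y : Matrix.ProjectiveSpecialLinearGroup (Fin 2) K |
        y ∈ H ∧ orderOf y = p} ≤ P.map H.subtype := by
      rw [Subgroup.closure_le]
      rintro y ⟨hyH, hyp⟩
      refine ⟨⟨y, hyH⟩, hP _ ?_, rfl⟩
      rw [← hyp]
      exact (Subgroup.orderOf_mk y hyH)
    have hh : (h : Matrix.ProjectiveSpecialLinearGroup (Fin 2) K) ∈ Subgroup.closure
        {y : Matrix.ProjectiveSpecialLinearGroup (Fin 2) K | y ∈ H ∧ orderOf y = p} := by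
      rw [hgen]; exact h.2
    obtain ⟨h', hh', heq⟩ := hle hh
    have : h' = h := Subtype.ext heq
    rwa [← this]
  -- homomorphisms to groups of exponent 2 are trivial
  have hexp2 : ∀ ψ : ↥H →* ℤˣ, ∀ h : ↥H, ψ h = 1 := by
    intro ψ h
    apply key ψ.ker
    intro y hy
    rw [MonoidHom.mem_ker]
    have h1 : (ψ y) ^ p = 1 := by rw [← map_pow, ← hy, pow_orderOf_eq_one, map_one]
    have h2 : (ψ y) ^ 2 = 1 := by rw [sq]; exact Int.units_mul_self _
    have hodd : Odd p := hp.odd_of_ne_two (by omega)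
    obtain ⟨k, hk⟩ := hodd
    rw [hk, pow_succ, pow_mul, h2, one_pow, one_mul] at h1
    exact h1
  -- the order of `K`
  obtain ⟨f, -, hq⟩ := FiniteField.card K p
  have hpq : p ∣ Fintype.card K := by
    rw [hq]; exact dvd_pow_self p f.pos.ne'
  have hq1 : 1 ≤ Fintype.card K := Fintype.card_pos
  rcases Cfsg.Agent.S0799.result (F := K) rfl p H with h1 | h2 | h3 | h4 | h5 | h6
  · -- cyclic or dihedral: `p ∤ |H|`
    exfalso
    obtain ⟨k, hk, hH⟩ := h1
    have hg1 : Nat.gcd 2 (Fintype.card K - 1) ∣ Fintype.card K - 1 := Nat.gcd_dvd_right _ _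
    have hg2 : Nat.gcd 2 (Fintype.card K - 1) ∣ Fintype.card K + 1 := by
      have h2 : Nat.gcd 2 (Fintype.card K - 1) ∣ 2 := Nat.gcd_dvd_left _ _
      have : Fintype.card K + 1 = (Fintype.card K - 1) + 2 := by omega
      rw [this]
      exact dvd_add hg1 h2
    have hpk : ¬ p ∣ k := by
      intro hpk
      rcases hk with hk | hk
      · have h1 : p ∣ Fintype.card K + 1 := (hpk.trans hk).trans (Nat.div_dvd_of_dvd hg2)
        have h2 : p ∣ 1 := (Nat.dvd_add_right hpq).mp h1
        exact hp.one_lt.ne' (Nat.dvd_one.mp h2)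
      · have h1 : p ∣ Fintype.card K - 1 := (hpk.trans hk).trans (Nat.div_dvd_of_dvd hg1)
        have h2 : p ∣ (Fintype.card K - 1) + 1 := by
          have : Fintype.card K - 1 + 1 = Fintype.card K := by omega
          rw [this]; exact hpq
        have h3 : p ∣ 1 := (Nat.dvd_add_right h1).mp h2
        exact hp.one_lt.ne' (Nat.dvd_one.mp h3)
    rcases hH with ⟨_, hcard⟩ | he
    · rw [hcard] at hdiv; exact hpk hdiv
    · obtain ⟨e⟩ := he
      rw [Nat.card_congr e.toEquiv, DihedralGroup.nat_card] at hdiv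
      rcases (Nat.Prime.dvd_mul hp).mp hdiv with h | h
      · exact hp2 h
      · exact hpk h
  · -- inside the normalizer of a Sylow `p`-subgroup: `|H| = p`
    exfalso
    obtain ⟨P', K₀, hK₀, ⟨e⟩⟩ := h2
    let φ : ↥H →* Matrix.ProjectiveSpecialLinearGroup (Fin 2) K := K₀.subtype.comp e.toMonoidHom
    have hφinj : Function.Injective φ := by
      intro a b hab
      apply e.injective
      exact Subtype.ext hab
    have hall : ∀ h : ↥H, φ h ∈ (P' : Subgroup (Matrix.ProjectiveSpecialLinearGroup (Fin 2) K)) := by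
      apply key ((P' : Subgroup (Matrix.ProjectiveSpecialLinearGroup (Fin 2) K)).comap φ)
      intro y hy
      rw [Subgroup.mem_comap]
      have hord : orderOf (φ y) = p := by rw [orderOf_injective φ hφinj y, hy]
      have hyN : φ y ∈ Subgroup.normalizer
          ((P' : Subgroup (Matrix.ProjectiveSpecialLinearGroup (Fin 2) K)) : Set _) := hK₀ (e y).2
      have hz : IsPGroup p (Subgroup.zpowers (φ y)) := by
        apply IsPGroup.of_card (n := 1)
        rw [Nat.card_zpowers, hord, pow_one]
      have hzN : Subgroup.zpowers (φ y) ≤ Subgroup.normalizer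
          ((P' : Subgroup (Matrix.ProjectiveSpecialLinearGroup (Fin 2) K)) : Set _) := by
        rw [Subgroup.zpowers_le]; exact hyN
      have hsup : IsPGroup p (Subgroup.zpowers (φ y) ⊔
          (P' : Subgroup (Matrix.ProjectiveSpecialLinearGroup (Fin 2) K)) : Subgroup _) :=
        IsPGroup.to_sup_of_normal_right' hz P'.2 hzN
      have hmax := P'.is_maximal' hsup le_sup_right
      have : φ y ∈ (Subgroup.zpowers (φ y) ⊔
          (P' : Subgroup (Matrix.ProjectiveSpecialLinearGroup (Fin 2) K)) : Subgroup _) :=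
        (le_sup_left : Subgroup.zpowers (φ y) ≤ _) (Subgroup.mem_zpowers _)
      rwa [hmax] at this
    have hHp : IsPGroup p ↥H := by
      let ψ : ↥H →* ↥(P' : Subgroup (Matrix.ProjectiveSpecialLinearGroup (Fin 2) K)) :=
        φ.codRestrict _ hall
      have hψinj : Function.Injective ψ := by
        intro a b hab
        apply hφinj
        have := congrArg Subtype.val hab
        exact this
      exact IsPGroup.of_injective P'.2 ψ hψinj
    obtain ⟨n, hn⟩ := IsPGroup.iff_card.mp hHp
    have hn1 : n = 1 := by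
      rcases Nat.lt_or_ge n 2 with h | h
      · rcases Nat.eq_zero_or_pos n with h0 | h0
        · rw [hn, h0, pow_zero] at hdiv
          exact absurd (Nat.dvd_one.mp hdiv) hp.one_lt.ne'
        · omega
      · exact absurd (hn ▸ pow_dvd_pow p h) hsq
    rw [hn1, pow_one] at hn
    apply hidx ⊥ inferInstance
    rw [Subgroup.index_bot, hn]
  · -- `A₄`
    exfalso
    obtain ⟨e⟩ := h3
    have hc : Nat.card (alternatingGroup (Fin 4)) = 12 := by
      rw [Nat.card_eq_fintype_card]
      have := two_mul_card_alternatingGroup (α := Fin 4)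
      rw [Fintype.card_perm, Fintype.card_fin] at this
      have h24 : (4 : ℕ).factorial = 24 := by decide
      omega
    rw [Nat.card_congr e.toEquiv, hc] at hdiv
    have := prime_dvd_small hp hp5 (Or.inl rfl) hdiv
    omega
  · -- `S₄`
    exfalso
    obtain ⟨e⟩ := h4
    have hc : Nat.card (Equiv.Perm (Fin 4)) = 24 := by
      rw [Nat.card_eq_fintype_card, Fintype.card_perm, Fintype.card_fin]
      decide
    rw [Nat.card_congr e.toEquiv, hc] at hdiv
    have := prime_dvd_small hp hp5 (Or.inr (Or.inl rfl)) hdiv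
    omega
  · -- `A₅`: `p = 5`
    obtain ⟨e⟩ := h5
    have hc : Nat.card (alternatingGroup (Fin 5)) = 60 := by
      rw [Nat.card_eq_fintype_card]
      have := two_mul_card_alternatingGroup (α := Fin 5)
      rw [Fintype.card_perm, Fintype.card_fin] at this
      have h120 : (5 : ℕ).factorial = 120 := by decide
      omega
    rw [Nat.card_congr e.toEquiv, hc] at hdiv
    obtain ⟨hp5', -⟩ := prime_dvd_small hp hp5 (Or.inr (Or.inr rfl)) hdiv
    subst hp5'
    obtain ⟨e'⟩ := Cfsg.Agent.S0253.result (F := ZMod 5) (by rw [ZMod.card])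
    exact ⟨e.trans e'.symm⟩
  · -- subfield subgroups
    obtain ⟨K₀, _, _, m, hm, hK₀⟩ := h6
    -- `|K₀|` is a power of `p`
    have hm0 : m ≠ 0 := by
      rintro rfl
      rw [pow_zero] at hm
      have : 1 < Fintype.card K := Fintype.one_lt_card
      omega
    have hc_dvd : Fintype.card K₀ ∣ p ^ (f : ℕ) := by
      rw [← hq, ← hm]; exact dvd_pow_self _ hm0
    obtain ⟨a, -, ha⟩ := (Nat.dvd_prime_pow hp).mp hc_dvd
    have ha0 : a ≠ 0 := by
      rintro rfl
      rw [pow_zero] at ha
      have : 1 < Fintype.card K₀ := Fintype.one_lt_card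
      omega
    rcases hK₀ with he | he
    · -- `PSL₂(K₀)`
      obtain ⟨e⟩ := he
      have hcard := Cfsg.Agent.Lib.Helper14.card_PSL2_mul_gcd (F := K₀)
      have ha1 : a = 1 := by
        by_contra hne
        have ha2 : 2 ≤ a := by omega
        apply hsq
        have h1 : p ^ 2 ∣ Fintype.card K₀ := by rw [ha]; exact pow_dvd_pow p ha2
        have h2 : p ^ 2 ∣ Nat.card (Matrix.ProjectiveSpecialLinearGroup (Fin 2) K₀) *
            Nat.gcd 2 (Fintype.card K₀ - 1) := by
          rw [hcard, mul_assoc]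
          exact h1.mul_right _
        have hcop : Nat.Coprime (p ^ 2) (Nat.gcd 2 (Fintype.card K₀ - 1)) := by
          apply Nat.Coprime.pow_left
          apply Nat.Coprime.coprime_dvd_right (Nat.gcd_dvd_left 2 _)
          exact (Nat.Prime.coprime_iff_not_dvd hp).mpr hp2
        rw [Nat.card_congr e.toEquiv]
        exact hcop.dvd_of_dvd_mul_right h2
      rw [ha1, pow_one] at ha
      let r : ZMod p ≃+* K₀ := ZMod.ringEquivOfPrime K₀ hp ha
      exact ⟨e.trans (Cfsg.Agent.Lib.Helper57.pslMapEquiv r.symm)⟩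
    · -- `PGL₂(K₀)`: has a quotient of order 2
      exfalso
      obtain ⟨e⟩ := he
      have hchar : ringChar K₀ ≠ 2 := by
        intro h2
        have : CharP K₀ 2 := by rw [← h2]; exact ringChar.charP K₀
        have h3 : ((Fintype.card K₀ : ℕ) : K₀) = 0 := Nat.cast_card_eq_zero K₀
        have h4 : 2 ∣ Fintype.card K₀ := (CharP.cast_eq_zero_iff K₀ 2 _).mp h3
        rw [ha] at h4
        exact hp2 (by
          have := (Nat.Prime.dvd_of_dvd_pow Nat.prime_two h4)
          exact (Nat.prime_dvd_prime_iff_eq Nat.prime_two hp).mp this ▸ dvd_refl _)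
      let g₀ : Matrix.ProjGenLinGroup (Fin 2) K₀ →* ℤˣ :=
        QuotientGroup.lift (Subgroup.center (Matrix.GeneralLinearGroup (Fin 2) K₀))
          (Cfsg.Agent.Lib.Helper76.BrauerEndPSL.detChar K₀)
          (Cfsg.Agent.Lib.Helper76.BrauerEndPSL.center_le_ker_detChar K₀)
      obtain ⟨c, hc⟩ := FiniteField.exists_nonsquare hchar
      have hc0 : c ≠ 0 := by
        rintro rfl
        exact hc ⟨0, by simp⟩
      let D : Matrix (Fin 2) (Fin 2) K₀ := !![c, 0; 0, 1]
      have hdet : D.det = c := by simp [D, Matrix.det_fin_two]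
      have hDu : IsUnit D.det := by rw [hdet]; exact isUnit_iff_ne_zero.mpr hc0
      let g : Matrix.GeneralLinearGroup (Fin 2) K₀ := Matrix.GeneralLinearGroup.mk'' D hDu
      have hg := hexp2 (g₀.comp e.toMonoidHom) (e.symm (Matrix.ProjGenLinGroup.mk g))
      rw [MonoidHom.comp_apply] at hg
      have hg' : g₀ (Matrix.ProjGenLinGroup.mk g) = 1 := by
        have : e.toMonoidHom (e.symm (Matrix.ProjGenLinGroup.mk g)) = Matrix.ProjGenLinGroup.mk g :=
          e.apply_symm_apply _
        rw [this] at hg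
        exact hg
      have hg2 : g₀ (Matrix.ProjGenLinGroup.mk g) =
          Cfsg.Agent.Lib.Helper76.BrauerEndPSL.detChar K₀ g := rfl
      rw [hg2, Cfsg.Agent.Lib.Helper76.BrauerEndPSL.detChar, MonoidHom.comp_apply] at hg'
      have h3 : ((quadraticChar K₀).toUnitHom (Matrix.GeneralLinearGroup.det g) : ℤ) =
          quadraticChar K₀ c := by
        rw [MulChar.coe_toUnitHom]
        congr 1
      rw [hg'] at h3
      have h4 := quadraticChar_neg_one_iff_not_isSquare.mpr hc
      rw [← h3] at h4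
      simp at h4

end Cfsg.Agent.Lib.Helper45.S4504
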