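import Mathlib
import Cfsg.Prelude.Def_Blocks
import Cfsg.Prelude.Def_Classical
import Cfsg.Agent.Lib.Helper79.ModP.Defs

/-!
# S4504 module [O3-DESC] (helper45, for helper79)

A matrix representation of a finite group over a field all of whose elements are algebraic over
`𝔽_p` (`a^(p^n) = a`) is realised over a finite subfield.
Statement verbatim from `Cfsg/Agent/Lib/Helper79/S4504/SPINE4504.md`.
-/

set_option autoImplicit false

open Cfsg Cfsg.Agent.Lib.Helper79.ModP

universe u

namespace Cfsg.Agent.Lib.Helper45.S4504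

/-- iterating `a ^ p ^ n = a` -/
theorem pow_pow_mul_eq {F : Type*} [Monoid F] {p n : ℕ} {a : F} (h : a ^ p ^ n = a) (k : ℕ) :
    a ^ p ^ (n * k) = a := by
  induction k with
  | zero => simp
  | succ k ih =>
    rw [Nat.mul_succ, pow_add, pow_mul, ih, h]

/-- MODULE S4504-[O3-DESC] -/
theorem exists_finite_descent {F : Type*} [Field F] {p : ℕ} [Fact p.Prime] [CharP F p]
    (halg : ∀ a : F, ∃ n : ℕ, 0 < n ∧ a ^ (p ^ n) = a)
    {G : Type*} [Group G] [Finite G] {ι : Type} [Fintype ι] [DecidableEq ι]
    (Φ : G →* Matrix.GeneralLinearGroup ι F) :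
    ∃ (K : Subfield F) (_ : Finite K) (Φ' : G →* Matrix.GeneralLinearGroup ι K),
      ∀ (g : G) (i j : ι), (((Φ' g : Matrix.GeneralLinearGroup ι K) : Matrix ι ι K) i j : F) =
        ((Φ g : Matrix.GeneralLinearGroup ι F) : Matrix ι ι F) i j := by
  classical
  have : Fintype G := Fintype.ofFinite G
  choose nn hnn_pos hnn using halg
  -- the common exponent
  let N : ℕ := ∏ x : G × ι × ι, nn (((Φ x.1 : Matrix.GeneralLinearGroup ι F) : Matrix ι ι F) x.2.1 x.2.2)
  have hN_pos : 0 < N := Finset.prod_pos fun x _ => hnn_pos _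
  have hentry : ∀ (g : G) (i j : ι),
      (((Φ g : Matrix.GeneralLinearGroup ι F) : Matrix ι ι F) i j) ^ p ^ N =
        ((Φ g : Matrix.GeneralLinearGroup ι F) : Matrix ι ι F) i j := by
    intro g i j
    have hdvd : nn (((Φ g : Matrix.GeneralLinearGroup ι F) : Matrix ι ι F) i j) ∣ N :=
      Finset.dvd_prod_of_mem
        (fun x : G × ι × ι =>
          nn (((Φ x.1 : Matrix.GeneralLinearGroup ι F) : Matrix ι ι F) x.2.1 x.2.2))
        (Finset.mem_univ (g, i, j))
    obtain ⟨k, hk⟩ := hdvd
    rw [hk]
    exact pow_pow_mul_eq (hnn _) k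
  -- the finite subfield
  let K : Subfield F := (iterateFrobenius F p N).eqLocusField (RingHom.id F)
  have hmemK : ∀ a : F, a ∈ K ↔ a ^ p ^ N = a := by
    intro a
    show (iterateFrobenius F p N) a = (RingHom.id F) a ↔ _
    rw [iterateFrobenius_def, RingHom.id_apply]
  have hKfin : Finite K := by
    have hne : (Polynomial.X ^ p ^ N - Polynomial.X : Polynomial F) ≠ 0 :=
      FiniteField.X_pow_card_pow_sub_X_ne_zero F hN_pos.ne' (Fact.out : p.Prime).one_lt
    have hsub : (K : Set F) ⊆ ((Polynomial.X ^ p ^ N - Polynomial.X : Polynomial F).roots.toFinset : Set F) := by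
      intro a ha
      rw [Finset.mem_coe, Multiset.mem_toFinset, Polynomial.mem_roots hne, Polynomial.IsRoot.def]
      simp only [Polynomial.eval_sub, Polynomial.eval_pow, Polynomial.eval_X]
      rw [(hmemK a).mp ha, sub_self]
    exact (Set.Finite.subset (Finset.finite_toSet _) hsub).to_subtype
  -- the matrices over `K`
  let M : G → Matrix ι ι K := fun g => Matrix.of fun i j =>
    ⟨((Φ g : Matrix.GeneralLinearGroup ι F) : Matrix ι ι F) i j, (hmemK _).mpr (hentry g i j)⟩
  have hMmap : ∀ g, (M g).map K.subtype = ((Φ g : Matrix.GeneralLinearGroup ι F) : Matrix ι ι F) := by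
    intro g
    ext i j
    rfl
  have hinj : Function.Injective (fun A : Matrix ι ι K => A.map K.subtype) := by
    intro A B hAB
    ext i j
    have := congrFun (congrFun hAB i) j
    exact this
  let φ : G →* Matrix ι ι K :=
    { toFun := M
      map_one' := by
        apply hinj
        show (M 1).map K.subtype = (1 : Matrix ι ι K).map K.subtype
        rw [hMmap, map_one, Matrix.map_one K.subtype (map_zero _) (map_one _)]
        rfl
      map_mul' := by
        intro g h
        apply hinj
        show (M (g * h)).map K.subtype = (M g * M h).map K.subtype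
        rw [Matrix.map_mul, hMmap, hMmap, hMmap, map_mul]
        rfl }
  refine ⟨K, hKfin, φ.toHomUnits, ?_⟩
  intro g i j
  rfl

end Cfsg.Agent.Lib.Helper45.S4504
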