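import Mathlib
import Cfsg.Prelude.Def_Blocks
import Cfsg.Prelude.Def_Classical
import Cfsg.Agent.Lib.Helper79.ModP.Defs

/-!
# S4504 module [O3-STD] (helper45, for helper79)

A non-degenerate symmetric bilinear form on a 3-dimensional space over an algebraically closed
field of characteristic `≠ 2` is `x₀² + x₁ x₂` in suitable coordinates.
Statement verbatim from `Cfsg/Agent/Lib/Helper79/S4504/SPINE4504.md`.
-/

set_option autoImplicit false

open Cfsg Cfsg.Agent.Lib.Helper79.ModP

universe u

namespace Cfsg.Agent.Lib.Helper45.S4504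

/-- MODULE S4504-[O3-STD] -/
theorem exists_std_basis {F T : Type*} [Field F] [IsAlgClosed F] (h2 : (2 : F) ≠ 0)
    [AddCommGroup T] [Module F T] (hdim : Module.finrank F T = 3)
    (κ : LinearMap.BilinForm F T) (hκs : κ.IsSymm) (hκn : κ.Nondegenerate) :
    ∃ b : Module.Basis (Unit ⊕ (Fin 1 ⊕ Fin 1)) F T,
      ∀ v : T, κ v v = Cfsg.quadFormOdd 1 F (fun i => b.repr v i) := by
  classical
  have hfd : FiniteDimensional F T := Module.finite_of_finrank_pos (by rw [hdim]; norm_num)
  let _ : Invertible (2 : F) := invertibleOfNonzero h2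
  -- orthogonal basis
  obtain ⟨e0, he0⟩ := LinearMap.BilinForm.exists_orthogonal_basis
    (LinearMap.BilinForm.isSymm_iff.mp hκs)
  -- reindex to `Fin 3`
  let e : Module.Basis (Fin 3) F T := e0.reindex (finCongr hdim)
  have he : ∀ i j : Fin 3, i ≠ j → κ (e i) (e j) = 0 := by
    intro i j hij
    have h1 : e i = e0 ((finCongr hdim).symm i) := by simp [e]
    have h2' : e j = e0 ((finCongr hdim).symm j) := by simp [e]
    rw [h1, h2']
    apply he0
    intro hc
    exact hij ((finCongr hdim).symm.injective hc)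
  -- square roots
  obtain ⟨r0, hr0⟩ := IsAlgClosed.exists_eq_mul_self (κ (e 0) (e 0))
  obtain ⟨r1, hr1⟩ := IsAlgClosed.exists_eq_mul_self (κ (e 1) (e 1))
  obtain ⟨r2, hr2⟩ := IsAlgClosed.exists_eq_mul_self (κ (e 2) (e 2))
  obtain ⟨im, him⟩ := IsAlgClosed.exists_eq_mul_self (-1 : F)
  -- the value of the form in coordinates
  have hval : ∀ v : T, κ v v = κ (e 0) (e 0) * (e.repr v 0) ^ 2 + κ (e 1) (e 1) * (e.repr v 1) ^ 2 +
      κ (e 2) (e 2) * (e.repr v 2) ^ 2 := by
    intro v
    conv_lhs => rw [← e.sum_repr v]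
    simp only [Fin.sum_univ_three, map_add, map_smul, LinearMap.add_apply, LinearMap.smul_apply,
      smul_eq_mul]
    rw [he 0 1 (by decide), he 0 2 (by decide), he 1 0 (by decide), he 1 2 (by decide),
      he 2 0 (by decide), he 2 1 (by decide)]
    ring
  -- the coordinate map
  let L : T →ₗ[F] (Unit ⊕ (Fin 1 ⊕ Fin 1) → F) :=
    LinearMap.pi fun idx =>
      match idx with
      | Sum.inl _ => r0 • e.coord 0
      | Sum.inr (Sum.inl _) => r1 • e.coord 1 - (im * r2) • e.coord 2
      | Sum.inr (Sum.inr _) => r1 • e.coord 1 + (im * r2) • e.coord 2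
  have hL0 : ∀ v, L v (Sum.inl ()) = r0 * e.repr v 0 := fun v => rfl
  have hL1 : ∀ v, L v (Sum.inr (Sum.inl 0)) = r1 * e.repr v 1 - im * r2 * e.repr v 2 := fun v => rfl
  have hL2 : ∀ v, L v (Sum.inr (Sum.inr 0)) = r1 * e.repr v 1 + im * r2 * e.repr v 2 := fun v => rfl
  have hQ : ∀ v : T, κ v v = Cfsg.quadFormOdd 1 F (L v) := by
    intro v
    unfold Cfsg.quadFormOdd
    rw [hval v, Fin.sum_univ_one, hL0, hL1, hL2, hr0, hr1, hr2]
    have him' : im * im = -1 := him.symm
    linear_combination (r2 * r2 * (e.repr v 2) ^ 2) * him'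
  -- injectivity from non-degeneracy
  have hLinj : Function.Injective L := by
    rw [← LinearMap.ker_eq_bot, LinearMap.ker_eq_bot']
    intro v hv
    apply hκn.1 v
    intro w
    have h1 : κ (v + w) (v + w) = κ w w := by
      rw [hQ (v + w), hQ w, map_add, hv, zero_add]
    have h0 : κ v v = 0 := by
      rw [hQ v, hv]
      unfold Cfsg.quadFormOdd
      simp
    have hsymm : κ w v = κ v w := hκs.eq w v
    have h3 : κ (v + w) (v + w) = κ v v + κ v w + κ w v + κ w w := by
      simp only [map_add, LinearMap.add_apply]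
      ring
    rw [h3, h0, hsymm] at h1
    have h4 : (2 : F) * κ v w = 0 := by linear_combination h1
    rcases mul_eq_zero.mp h4 with h5 | h5
    · exact absurd h5 h2
    · exact h5
  have hdimeq : Module.finrank F T = Module.finrank F (Unit ⊕ (Fin 1 ⊕ Fin 1) → F) := by
    rw [hdim, Module.finrank_fintype_fun_eq_card]
    rfl
  let E : T ≃ₗ[F] (Unit ⊕ (Fin 1 ⊕ Fin 1) → F) := LinearMap.linearEquivOfInjective L hLinj hdimeq
  refine ⟨Module.Basis.ofEquivFun E, ?_⟩
  intro v
  rw [hQ v]
  congr 1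

end Cfsg.Agent.Lib.Helper45.S4504
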